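import Cfsg.Agent.SzLie.Order
import Cfsg.Agent.S2337

/-!
Simplicity of `Cfsg.Lie.Sz F e`.
-/

set_option autoImplicit false
set_option linter.unusedSectionVars false
set_option linter.unusedSimpArgs false
set_option linter.style.haveILetI false

namespace Cfsg.Agent.SzLie

open Cfsg.Lie Matrix Cfsg.Agent.H39
open scoped commutatorElement

section
variable {F : Type*} [Field F] {e : ℕ}

theorem borel_mul (h : SzE F e) (x y x' y' : F) (t t' : Fˣ) :
    ∃ x'' y'', szQ h x y * szHt h t * (szQ h x' y' * szHt h t') = szQ h x'' y'' * szHt h (t * t') := by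
  have h1 := szHt_conj_szQ h t x' y'
  have h2 : szQ h x y * szHt h t * (szQ h x' y' * szHt h t') =
    szQ h x y * (szHt h t * szQ h x' y' * (szHt h t)⁻¹) * (szHt h t * szHt h t') := by group
  exact ⟨_, _, by rw [h2, h1, szQ_mul, szHt_mul]⟩

/-- The character of the Borel subgroup. -/
noncomputable def borelChar (h : SzE F e) : szB h →* Fˣ where
  toFun g := ((szBEquiv h).symm g).2
  map_one' := by
    have h1 : (1 : szB h) = szBEquiv h ((0, 0), 1) := by
      apply Subtype.ext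
      show (1 : ↥(Sz F e)) = szQ h 0 0 * szHt h 1
      rw [szQ_zero, szHt_one, one_mul]
    rw [h1, Equiv.symm_apply_apply]
  map_mul' := by
    intro g g'
    obtain ⟨⟨⟨x, y⟩, t⟩, rfl⟩ := (szBEquiv h).surjective g
    obtain ⟨⟨⟨x', y'⟩, t'⟩, rfl⟩ := (szBEquiv h).surjective g'
    obtain ⟨x'', y'', hh⟩ := borel_mul h x y x' y' t t'
    have h1 : szBEquiv h ((x, y), t) * szBEquiv h ((x', y'), t') = szBEquiv h ((x'', y''), t * t') := by
      apply Subtype.ext
      exact hh
    rw [h1, Equiv.symm_apply_apply, Equiv.symm_apply_apply, Equiv.symm_apply_apply]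

theorem borelChar_apply (h : SzE F e) (x y : F) (t : Fˣ) : borelChar h (szBEquiv h ((x, y), t)) = t := by
  show ((szBEquiv h).symm _).2 = t
  rw [Equiv.symm_apply_apply]

theorem isPGroup_szQSub [Fintype F] (h : SzE F e) {n : ℕ} (hF : Fintype.card F = 2 ^ n) : IsPGroup 2 (szQSub h) := by
  apply IsPGroup.of_card (n := n * 2)
  rw [card_szQSub h, hF, ← pow_mul]

theorem isSolvable_szB [Fintype F] (h : SzE F e) {n : ℕ} (hF : Fintype.card F = 2 ^ n) : Group.IsSolvable (szB h) := by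
  haveI : Fact (Nat.Prime 2) := ⟨Nat.prime_two⟩
  haveI : Group.IsNilpotent (szQSub h) := (isPGroup_szQSub h hF).isNilpotent
  haveI : Group.IsSolvable (szQSub h) := inferInstance
  refine Group.isSolvable_of_ker_le_range (Subgroup.inclusion (szQSub_le_szB h)) (borelChar h) ?_
  intro g hg
  obtain ⟨⟨⟨x, y⟩, t⟩, rfl⟩ := (szBEquiv h).surjective g
  rw [MonoidHom.mem_ker, borelChar_apply] at hg
  subst hg
  refine ⟨⟨szQ h x y, _, _, rfl⟩, ?_⟩
  apply Subtype.ext
  show szQ h x y = szQ h x y * szHt h 1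
  rw [szHt_one, mul_one]

theorem commutator_eq_top [Fintype F] (h : SzE F e) (hF : ∃ t : Fˣ, (t : F) ≠ 1) :
    commutator ↥(Sz F e) = ⊤ := by
  apply S2337.ker_eq_top h _ _ hF
  intro y
  obtain ⟨t, ht⟩ := hF
  have hte : (t : F) ^ e * (t : F) ^ 2 + 1 ≠ 0 := by
    intro h0
    apply ht
    have h1 : (fun t : Fˣ => t ^ e * t ^ 2) t = (fun t : Fˣ => t ^ e * t ^ 2) 1 := by
      simp only [one_pow, mul_one]
      ext
      push_cast
      linear_combination h0 - h.two
    have := S2337.tpow_injective h h1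
    rw [this]; rfl
  have h1 : ⁅szHt h t, szQ h 0 (((t : F) ^ e * (t : F) ^ 2 + 1)⁻¹ * y)⁆ ∈ commutator ↥(Sz F e) :=
    Subgroup.commutator_mem_commutator (Subgroup.mem_top _) (Subgroup.mem_top _)
  have h2 : ⁅szHt h t, szQ h 0 (((t : F) ^ e * (t : F) ^ 2 + 1)⁻¹ * y)⁆ = szQ h 0 y := by
    rw [commutatorElement_def, szHt_conj_szQ, szQ_inv, szQ_mul]
    congr 1
    · ring
    · rw [h.zero_pow]
      field_simp
      ring
  rwa [h2] at h1

theorem eq_bot_of_le_szB [Fintype F] (h : SzE F e) (N : Subgroup ↥(Sz F e)) [hN : N.Normal] (hNB : N ≤ szB h) :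
    N = ⊥ := by
  have key : ∀ n ∈ N, ∃ t, n = szHt h t := by
    intro n hn
    obtain ⟨x, y, t, rfl⟩ := hNB hn
    have h1 := hNB (hN.conj_mem _ hn (szWt h))
    obtain ⟨x', y', t', h2⟩ := h1
    have h3 := congrArg (fun g => szToMat F e g 3 2) h2
    have h4 := congrArg (fun g => szToMat F e g 3 1) h2
    simp only [szWt_inv, map_mul, szToMat_szQ, szToMat_szWt, szToMat_szHt] at h3 h4
    simp [szQMat, szWMat, szHMat, Matrix.mul_apply, Fin.sum_univ_four] at h3 h4
    refine ⟨t, ?_⟩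
    rw [h3, h4, szQ_zero, one_mul]
  rw [eq_bot_iff]
  intro n hn
  obtain ⟨t, rfl⟩ := key n hn
  obtain ⟨t', ht'⟩ := key _ (hN.conj_mem _ hn (szQ h 0 1))
  have h1 : szQ h 0 1 * szHt h t * (szQ h 0 1)⁻¹ =
    szQ h 0 1 * (szHt h t * (szQ h 0 1)⁻¹ * (szHt h t)⁻¹) * szHt h t := by group
  rw [h1, szQ_inv, szHt_conj_szQ, szQ_mul] at ht'
  have h2 : szHt h t' = szQ h 0 0 * szHt h t' := by rw [szQ_zero, one_mul]
  rw [h2] at ht'
  obtain ⟨-, h3, -⟩ := szQ_szHt_injective h ht'
  have h4 : (t : F) ^ e * (t : F) ^ 2 = 1 := by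
    rw [h.zero_pow] at h3
    linear_combination h3 - h.two
  have h5 : (fun t : Fˣ => t ^ e * t ^ 2) t = (fun t : Fˣ => t ^ e * t ^ 2) 1 := by
    simp only [one_pow, mul_one]
    ext
    push_cast
    exact h4
  rw [S2337.tpow_injective h h5, szHt_one]
  exact Subgroup.one_mem _

theorem isSimple_sz [Fintype F] (h : SzE F e) {n : ℕ} (hF : Fintype.card F = 2 ^ n) (h2 : ∃ t : Fˣ, (t : F) ≠ 1) :
    IsSimpleGroup ↥(Sz F e) := by
  haveI : Nontrivial ↥(Sz F e) := by
    refine ⟨szQ h 0 1, 1, ?_⟩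
    rw [← szQ_zero h]
    intro hh
    exact one_ne_zero (szQ_injective h hh).2
  refine { eq_bot_or_eq_top_of_normal := ?_ }
  intro N hN
  by_cases hNB : N ≤ szB h
  · exact Or.inl (eq_bot_of_le_szB h N hNB)
  right
  obtain ⟨n, hn, hnB⟩ := SetLike.not_le_iff_exists.1 hNB
  obtain ⟨a, b, β, hβ, hh⟩ := exists_bruhat h n hnB
  -- the restriction of the quotient map to the Borel subgroup is surjective
  have hmem : ∀ g ∈ N, (QuotientGroup.mk' N) g = 1 := fun g hg => (QuotientGroup.eq_one_iff g).2 hg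
  have hw : ∃ c : szB h, QuotientGroup.mk' N (c : ↥(Sz F e)) = QuotientGroup.mk' N (szWt h) := by
    refine ⟨⟨(szQ h a b)⁻¹ * β⁻¹, (szB h).mul_mem ((szB h).inv_mem (szQ_mem_szB h a b)) ((szB h).inv_mem hβ)⟩, ?_⟩
    have h1 := hmem _ hn
    rw [hh, map_mul, map_mul] at h1
    show QuotientGroup.mk' N ((szQ h a b)⁻¹ * β⁻¹) = _
    rw [map_mul, map_inv, map_inv]
    have h3 : QuotientGroup.mk' N (szWt h) = (QuotientGroup.mk' N (szQ h a b))⁻¹ *
      (QuotientGroup.mk' N (szQ h a b) * QuotientGroup.mk' N (szWt h) * QuotientGroup.mk' N β) *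
        (QuotientGroup.mk' N β)⁻¹ := by group
    rw [h3, h1, mul_one]
  have hsurj : Function.Surjective ((QuotientGroup.mk' N).comp (szB h).subtype) := by
    intro g
    obtain ⟨g, rfl⟩ := QuotientGroup.mk'_surjective N g
    by_cases hg : g ∈ szB h
    · exact ⟨⟨g, hg⟩, rfl⟩
    · obtain ⟨a, b, β, hβ, rfl⟩ := exists_bruhat h g hg
      obtain ⟨c, hc⟩ := hw
      refine ⟨⟨szQ h a b * c * β, (szB h).mul_mem ((szB h).mul_mem (szQ_mem_szB h a b) c.2) hβ⟩, ?_⟩
      show QuotientGroup.mk' N (szQ h a b * c * β) = QuotientGroup.mk' N (szQ h a b * szWt h * β)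
      rw [map_mul, map_mul, map_mul, map_mul, hc]
  haveI := isSolvable_szB h hF
  haveI : Group.IsSolvable (↥(Sz F e) ⧸ N) := Group.isSolvable_of_surjective hsurj
  have hperf : commutator (↥(Sz F e) ⧸ N) = ⊤ := by
    have h1 : Subgroup.map (QuotientGroup.mk' N) (commutator ↥(Sz F e)) = commutator (↥(Sz F e) ⧸ N) := by
      rw [commutator_def, Subgroup.map_commutator, Subgroup.map_top_of_surjective _ (QuotientGroup.mk'_surjective N),
        ← commutator_def]
    rw [← h1, commutator_eq_top h h2, Subgroup.map_top_of_surjective _ (QuotientGroup.mk'_surjective N)]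
  by_contra hNt
  haveI : Nontrivial (↥(Sz F e) ⧸ N) := by
    rw [← not_subsingleton_iff_nontrivial]
    intro hs
    exact hNt (QuotientGroup.subgroup_eq_top_of_subsingleton N hs)
  exact absurd hperf (Group.IsSolvable.commutator_lt_top_of_nontrivial _).ne

theorem exists_ne_one [Fintype F] (hF : 2 < Fintype.card F) : ∃ t : Fˣ, (t : F) ≠ 1 := by
  by_contra hcon2
  push Not at hcon2
  classical
  have h1 : Fintype.card F = Fintype.card Fˣ + 1 := by
    rw [Fintype.card_units]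
    omega
  have h2 : Fintype.card Fˣ ≤ 1 := by
    rw [Fintype.card_le_one_iff]
    intro a b
    exact Units.ext ((hcon2 a).trans (hcon2 b).symm)
  omega

end

end Cfsg.Agent.SzLie
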